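import Mathlib

/-!
# Standard étale algebras over polynomial rings as birational hypersurfaces, and retractions from residue lifts
-/

set_option autoImplicit false
set_option maxHeartbeats 1000000
universe u
open IsLocalRing

noncomputable section

namespace RetrRatLib

/-- A domain which is standard étale over a polynomial ring is birational to a hypersurface in affine space. -/
theorem exists_model (k B : Type u) [Field k] [CommRing B] [IsDomain B] [Algebra k B] (n : ℕ)
    [Algebra (MvPolynomial (Fin n) k) B] [IsScalarTower k (MvPolynomial (Fin n) k) B]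
    [Algebra.IsStandardEtale (MvPolynomial (Fin n) k) B] :
    ∃ σ : MvPolynomial (Fin (n + 1)) k →ₐ[k] B,
      (∀ c : B, ∃ a b, σ b ≠ 0 ∧ σ b * c = σ a) ∧
      ∃ g, g ≠ 0 ∧ RingHom.ker σ = Ideal.span {g} := by
  let P : StandardEtalePresentation (MvPolynomial (Fin n) k) B :=
    Algebra.IsStandardEtale.nonempty_standardEtalePresentation.some
  let e := MvPolynomial.finSuccEquiv k n
  let ψ : Polynomial (MvPolynomial (Fin n) k) →ₐ[k] B := (Polynomial.aeval P.x).restrictScalars k
  have hint : _root_.IsIntegral (MvPolynomial (Fin n) k) P.x := ⟨P.f, P.monic_f, by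
    rw [← Polynomial.aeval_def]; exact P.hasMap.1⟩
  have hinj : Function.Injective (algebraMap (MvPolynomial (Fin n) k) B) := by
    haveI : Module.Flat (MvPolynomial (Fin n) k) B := Algebra.Smooth.flat (R := MvPolynomial (Fin n) k) (A := B)
    intro a b hab
    by_contra hne
    have h1 := IsSMulRegular.of_flat (R := MvPolynomial (Fin n) k) (S := B) (x := a - b)
      fun y z h => mul_left_cancel₀ (sub_ne_zero.2 hne) h
    exact one_ne_zero (h1 (show (algebraMap (MvPolynomial (Fin n) k) B (a - b)) • (1 : B) =
      (algebraMap (MvPolynomial (Fin n) k) B (a - b)) • (0 : B) by rw [map_sub, hab, sub_self, zero_smul, zero_smul]))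
  haveI : Module.IsTorsionFree (MvPolynomial (Fin n) k) B :=
    ⟨fun r hr x y hxy => by
      simp only [Algebra.smul_def] at hxy
      exact mul_left_cancel₀ (fun h => hr.ne_zero (hinj (h.trans (map_zero _).symm))) hxy⟩
  refine ⟨ψ.comp (e : MvPolynomial (Fin (n + 1)) k →ₐ[k] Polynomial (MvPolynomial (Fin n) k)), fun c => ?_,
    e.symm (minpoly (MvPolynomial (Fin n) k) P.x), ?_, ?_⟩
  · obtain ⟨p, m, hp⟩ := P.exists_mul_aeval_x_g_pow_eq_aeval_x c
    refine ⟨e.symm p, e.symm (P.g ^ m), ?_, ?_⟩
    · show ψ (e (e.symm (P.g ^ m))) ≠ 0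
      rw [e.apply_symm_apply]
      show Polynomial.aeval P.x (P.g ^ m) ≠ 0
      rw [map_pow]
      exact pow_ne_zero _ P.hasMap.2.ne_zero
    · show ψ (e (e.symm (P.g ^ m))) * c = ψ (e (e.symm p))
      rw [e.apply_symm_apply, e.apply_symm_apply]
      show Polynomial.aeval P.x (P.g ^ m) * c = Polynomial.aeval P.x p
      rw [map_pow, mul_comm, hp]
  · exact fun h => minpoly.ne_zero hint (e.symm.injective (h.trans (map_zero _).symm))
  · ext p
    rw [RingHom.mem_ker, Ideal.mem_span_singleton]
    show Polynomial.aeval P.x (e p) = 0 ↔ _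
    rw [minpoly.isIntegrallyClosed_dvd_iff hint]
    constructor
    · intro h
      simpa using map_dvd e.symm h
    · intro h
      simpa using map_dvd e h

/-- If the residue point of a hypersurface lifts to its local ring, a localisation of the coordinate ring is a retract
of a localised polynomial ring. -/
theorem exists_retract {k P C : Type u} [Field k] [CommRing P] [IsDomain P] [Algebra k P] [CommRing C] [IsDomain C]
    [Algebra k C] [Algebra.FiniteType k C] (σ : P →ₐ[k] C) [hp : (RingHom.ker σ).IsPrime]
    (hbir : ∀ c : C, ∃ a b, σ b ≠ 0 ∧ σ b * c = σ a)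
    (φ : C →ₐ[k] Localization.AtPrime (RingHom.ker σ))
    (hφ : ∀ (c : C) (a : P) (b : (RingHom.ker σ).primeCompl),
      φ c = IsLocalization.mk' (Localization.AtPrime (RingHom.ker σ)) a b → σ b * c = σ a) :
    ∃ (x : C) (r : P) (ι : Localization.Away x →ₐ[k] Localization.Away r)
      (π : Localization.Away r →ₐ[k] Localization.Away x), x ≠ 0 ∧ π.comp ι = AlgHom.id k _ := by
  classical
  let A := Localization.AtPrime (RingHom.ker σ)
  obtain ⟨s, hs⟩ := (Algebra.FiniteType.out : (⊤ : Subalgebra k C).FG)
  choose num den hden using fun c : C => IsLocalization.exists_mk'_eq (RingHom.ker σ).primeCompl (φ c)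
  let m : P := ∏ c ∈ s, ((den c : (RingHom.ker σ).primeCompl) : P)
  have hm : σ m ≠ 0 := by
    rw [map_prod]
    exact Finset.prod_ne_zero_iff.2 fun c _ => (den c).2
  let M := Localization.Away m
  have hmu : IsUnit ((IsScalarTower.toAlgHom k P A) m) :=
    IsLocalization.map_units (M := (RingHom.ker σ).primeCompl) A ⟨m, hm⟩
  let j : M →ₐ[k] A := IsLocalization.Away.liftAlgHom (A := k) (S := M) (f := IsScalarTower.toAlgHom k P A) m hmu
  have hje : ∀ q : P, j (algebraMap P M q) = algebraMap P A q := fun q =>
    IsLocalization.Away.lift_eq (g := (IsScalarTower.toAlgHom k P A).toRingHom) m hmu q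
  have hjinj : Function.Injective j := by
    have hunit : (Submonoid.powers m) ≤ nonZeroDivisors P :=
      powers_le_nonZeroDivisors_of_noZeroDivisors fun h => hm (by rw [h, map_zero])
    intro y z hyz
    obtain ⟨⟨a, a'⟩, ha⟩ := IsLocalization.surj (Submonoid.powers m) y
    obtain ⟨⟨b, b'⟩, hb⟩ := IsLocalization.surj (Submonoid.powers m) z
    have h1 := congrArg j ha
    have h2 := congrArg j hb
    simp only [map_mul, hje] at h1 h2
    have h3 : algebraMap P A (a * (b' : P)) = algebraMap P A (b * (a' : P)) := by
      rw [map_mul, map_mul, ← h1, ← h2, hyz]; ring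
    have h4 := IsLocalization.injective A (RingHom.ker σ).primeCompl_le_nonZeroDivisors h3
    have hu : IsUnit (algebraMap P M (a' : P) * algebraMap P M (b' : P)) :=
      (IsLocalization.map_units M a').mul (IsLocalization.map_units M b')
    refine hu.mul_left_injective ?_
    dsimp only
    rw [← mul_assoc, ha, mul_comm (algebraMap P M (a' : P)) (algebraMap P M (b' : P)), ← mul_assoc, hb, ← map_mul,
      ← map_mul, h4]
  have hrange : φ.range ≤ j.range := by
    rw [← Algebra.map_top, ← hs, AlgHom.map_adjoin, Algebra.adjoin_le_iff]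
    rintro _ ⟨c, hc, rfl⟩
    refine ⟨algebraMap P M (num c * ∏ d ∈ s.erase c, ((den d : (RingHom.ker σ).primeCompl) : P)) *
      IsLocalization.Away.invSelf m, ?_⟩
    have hu : IsUnit (algebraMap P A m) := IsLocalization.map_units (M := (RingHom.ker σ).primeCompl) A ⟨m, hm⟩
    refine hu.mul_left_injective ?_
    show j _ * algebraMap P A m = φ c * algebraMap P A m
    rw [← hje m, ← map_mul j, mul_assoc, mul_comm (IsLocalization.Away.invSelf m) (algebraMap P M m),
      IsLocalization.Away.mul_invSelf, mul_one, hje, hje, ← hden c,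
      show algebraMap P A m = algebraMap P A ((den c : P)) *
        algebraMap P A (∏ d ∈ s.erase c, ((den d : (RingHom.ker σ).primeCompl) : P)) from by
          rw [← map_mul, Finset.mul_prod_erase _ (fun d => ((den d : (RingHom.ker σ).primeCompl) : P)) hc],
      ← mul_assoc, IsLocalization.mk'_spec, map_mul]
  let ej := AlgEquiv.ofInjective j hjinj
  let φ' : C →ₐ[k] M := (ej.symm : j.range →ₐ[k] M).comp ((Subalgebra.inclusion hrange).comp φ.rangeRestrict)
  have hφ' : ∀ c, j (φ' c) = φ c := fun c => by
    show j (ej.symm _) = _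
    exact congrArg Subtype.val (ej.apply_symm_apply (Subalgebra.inclusion hrange (φ.rangeRestrict c)))
  -- the reduction of `φ'` is the identity
  have hred : ∀ (c : C) (a : P) (N : ℕ), algebraMap P M (m ^ N) * φ' c = algebraMap P M a →
      σ (m ^ N) * c = σ a := fun c a N h => by
    have h1 := congrArg j h
    rw [map_mul, hje, hje, hφ'] at h1
    refine hφ c a ⟨m ^ N, fun h2 => pow_ne_zero N hm (by rw [← map_pow]; exact h2)⟩ ?_
    rw [IsLocalization.eq_mk'_iff_mul_eq, mul_comm]
    exact h1
  obtain ⟨N, a, ha⟩ := IsLocalization.Away.surj m (φ' (σ m))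
  rw [mul_comm, ← map_pow] at ha
  have hσa : σ a = σ m ^ N * σ m := by rw [← map_pow]; exact (hred _ _ _ ha).symm
  let r : P := m * a
  let x : C := σ m
  have hmr : IsUnit ((IsScalarTower.toAlgHom k P (Localization.Away r)) m) := by
    have h := IsLocalization.Away.algebraMap_isUnit (S := Localization.Away r) r
    rw [map_mul] at h
    exact isUnit_of_mul_isUnit_left h
  let iM : M →ₐ[k] Localization.Away r := IsLocalization.Away.liftAlgHom (A := k) (S := M)
    (f := IsScalarTower.toAlgHom k P (Localization.Away r)) m hmr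
  have hiM : ∀ q : P, iM (algebraMap P M q) = algebraMap P (Localization.Away r) q :=
    fun q => IsLocalization.Away.lift_eq (g := (IsScalarTower.toAlgHom k P (Localization.Away r)).toRingHom) m hmr q
  have hxu : IsUnit (iM (φ' x)) := by
    have h := IsLocalization.Away.algebraMap_isUnit (S := Localization.Away r) r
    rw [map_mul, ← hiM a, ← ha, map_mul, ← mul_assoc] at h
    exact isUnit_of_mul_isUnit_right h
  let ι : Localization.Away x →ₐ[k] Localization.Away r :=
    IsLocalization.Away.liftAlgHom (A := k) (S := Localization.Away x) (f := iM.comp φ') x hxu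
  have hru : IsUnit (((IsScalarTower.toAlgHom k C (Localization.Away x)).comp σ) r) := by
    show IsUnit (algebraMap C (Localization.Away x) (σ (m * a)))
    rw [map_mul σ, hσa, map_mul, map_mul, map_pow]
    have hu := IsLocalization.Away.algebraMap_isUnit (S := Localization.Away x) x
    exact hu.mul ((hu.pow N).mul hu)
  let π : Localization.Away r →ₐ[k] Localization.Away x :=
    IsLocalization.Away.liftAlgHom (A := k) (S := Localization.Away r)
      (f := (IsScalarTower.toAlgHom k C (Localization.Away x)).comp σ) r hru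
  have hπ : ∀ q : P, π (algebraMap P (Localization.Away r) q) = algebraMap C (Localization.Away x) (σ q) :=
    fun q => IsLocalization.Away.lift_eq (g := ((IsScalarTower.toAlgHom k C (Localization.Away x)).comp σ).toRingHom) r hru q
  refine ⟨x, r, ι, π, hm, AlgHom.coe_ringHom_injective (IsLocalization.ringHom_ext (Submonoid.powers x) (RingHom.ext fun c => ?_))⟩
  show π (ι (algebraMap C (Localization.Away x) c)) = algebraMap C (Localization.Away x) c
  rw [show ι (algebraMap C (Localization.Away x) c) = iM (φ' c) from IsLocalization.Away.lift_eq (g := (iM.comp φ').toRingHom) x hxu c]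
  obtain ⟨L, b, hb⟩ := IsLocalization.Away.surj m (φ' c)
  rw [mul_comm, ← map_pow] at hb
  have h1 := congrArg (fun y => π (iM y)) hb
  simp only [map_mul, hiM, hπ] at h1
  rw [← hred c b L hb, map_mul] at h1
  refine ((IsLocalization.Away.algebraMap_isUnit (S := Localization.Away x) x).pow L).mul_right_injective ?_
  simpa [x] using h1

/-- The residue field of a birational hypersurface point. -/
theorem exists_residue {k P C : Type u} [Field k] [CommRing P] [Algebra k P] [CommRing C] [IsDomain C]
    [Algebra k C] (σ : P →ₐ[k] C) [hp : (RingHom.ker σ).IsPrime]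
    (hbir : ∀ c : C, ∃ a b, σ b ≠ 0 ∧ σ b * c = σ a) :
    ∃ ψ : C →ₐ[k] IsLocalRing.ResidueField (Localization.AtPrime (RingHom.ker σ)),
      ∀ (c : C) (a : P) (b : (RingHom.ker σ).primeCompl),
        ψ c = residue _ (IsLocalization.mk' (Localization.AtPrime (RingHom.ker σ)) a b) → σ b * c = σ a := by
  let A := Localization.AtPrime (RingHom.ker σ)
  let F := FractionRing C
  have hu : ∀ q : (RingHom.ker σ).primeCompl,
      IsUnit (((IsScalarTower.toAlgHom k C F).comp σ) q) := fun q =>
    isUnit_iff_ne_zero.2 ((map_ne_zero_iff _ (IsFractionRing.injective C F)).2 q.2)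
  let Φ : A →ₐ[k] F := IsLocalization.liftAlgHom (M := (RingHom.ker σ).primeCompl) (S := A)
    (f := (IsScalarTower.toAlgHom k C F).comp σ) hu
  have hΦ : ∀ q : P, Φ (algebraMap P A q) = algebraMap C F (σ q) := fun q =>
    IsLocalization.lift_eq (M := (RingHom.ker σ).primeCompl) _ q
  have hloc : IsLocalHom Φ.toRingHom := ⟨fun y hy => by
    obtain ⟨⟨a, b⟩, hab⟩ := IsLocalization.surj (RingHom.ker σ).primeCompl y
    have hy' : Φ y ≠ 0 := hy.ne_zero
    have h1 := congrArg Φ hab
    rw [map_mul, hΦ, hΦ] at h1
    have ha : a ∈ (RingHom.ker σ).primeCompl := fun h0 => by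
      rw [show σ a = 0 from h0, map_zero] at h1
      exact mul_ne_zero hy' (hu b).ne_zero h1
    exact isUnit_of_mul_isUnit_left (hab ▸ IsLocalization.map_units A ⟨a, ha⟩)⟩
  let θ : ResidueField A →+* F := ResidueField.lift Φ.toRingHom
  have hθ : ∀ y : A, θ (residue A y) = Φ y := fun y => rfl
  have hbij : Function.Bijective θ := ⟨θ.injective, fun z => by
    obtain ⟨c, d, hd, rfl⟩ := IsFractionRing.div_surjective C z
    have key : ∀ c : C, algebraMap C F c ∈ θ.fieldRange := fun c => by
      obtain ⟨a, b, hb, h⟩ := hbir c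
      refine ⟨residue A (IsLocalization.mk' A a (⟨b, hb⟩ : (RingHom.ker σ).primeCompl)), ?_⟩
      rw [hθ]
      refine (hu ⟨b, hb⟩).mul_left_injective ?_
      show Φ _ * algebraMap C F (σ b) = algebraMap C F c * algebraMap C F (σ b)
      rw [← hΦ b, ← map_mul Φ]
      erw [IsLocalization.mk'_spec]
      rw [hΦ, hΦ, ← map_mul, ← h, mul_comm]
    exact (θ.fieldRange).div_mem (key c) (key d)⟩
  let θe := RingEquiv.ofBijective θ hbij
  refine ⟨{ toRingHom := θe.symm.toRingHom.comp (algebraMap C F), commutes' := fun r => θe.injective ?_ }, ?_⟩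
  · show θe (θe.symm (algebraMap C F (algebraMap k C r))) = θ (residue A (algebraMap k A r))
    rw [θe.apply_symm_apply, hθ, AlgHom.commutes, ← IsScalarTower.algebraMap_apply]
  · intro c a b h
    have h1 := congrArg θe h
    change θe (θe.symm (algebraMap C F c)) = θ (residue A _) at h1
    rw [θe.apply_symm_apply, hθ] at h1
    apply IsFractionRing.injective C F
    rw [map_mul, ← hΦ (b : P), h1, ← map_mul Φ, mul_comm, IsLocalization.mk'_spec, hΦ]

/-- The localisation at a nonzero principal prime of a Noetherian domain is a discrete valuation ring. -/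
theorem isDVR_of_principal {P : Type u} [CommRing P] [IsDomain P] [IsNoetherianRing P] (I : Ideal P) [I.IsPrime]
    {g : P} (hg : g ≠ 0) (hI : I = Ideal.span {g}) : IsDiscreteValuationRing (Localization.AtPrime I) := by
  have hinj := IsLocalization.injective (Localization.AtPrime I) I.primeCompl_le_nonZeroDivisors
  have hmax : maximalIdeal (Localization.AtPrime I) = Ideal.span {algebraMap P _ g} := by
    rw [← Localization.AtPrime.map_eq_maximalIdeal]
    rw [show Ideal.map (algebraMap P (Localization.AtPrime I)) I =
      Ideal.map (algebraMap P (Localization.AtPrime I)) (Ideal.span {g}) from congrArg _ hI,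
      Ideal.map_span, Set.image_singleton]
  have hne : ¬ IsField (Localization.AtPrime I) := by
    rw [IsLocalRing.isField_iff_maximalIdeal_eq, hmax, Ideal.span_singleton_eq_bot]
    exact fun h => hg (hinj (h.trans (map_zero _).symm))
  exact ((IsDiscreteValuationRing.TFAE (Localization.AtPrime I) hne).out 4 0 rfl rfl).1 ⟨⟨_, hmax⟩⟩

end RetrRatLib

end
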