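import Groth.Agent.RetrRatLib.Algebra
import Groth.Agent.AlgSpLib.ReducedSmooth

/-!
# Retract rationality of smooth schemes whose residue points lift
-/

set_option autoImplicit false
set_option backward.isDefEq.respectTransparency false
set_option backward.isDefEq.respectTransparency.types false
set_option maxHeartbeats 1000000
universe u
open AlgebraicGeometry CategoryTheory CategoryTheory.Limits IsLocalRing

noncomputable section

namespace RetrRatLib

/-- A nontrivial reduced Noetherian ring has a localisation away from an element which is a domain. -/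
theorem exists_away_isDomain (B : Type u) [CommRing B] [IsNoetherianRing B] [_root_.IsReduced B] [Nontrivial B] :
    ∃ e : B, IsDomain (Localization.Away e) := by
  classical
  obtain ⟨M, hM⟩ := Ideal.exists_maximal B
  haveI := hM.isPrime
  obtain ⟨Q, hQ, -⟩ := Ideal.exists_minimalPrimes_le (J := M) (bot_le : (⊥ : Ideal B) ≤ M)
  have hfin := Ideal.finite_minimalPrimes_of_isNoetherianRing B (⊥ : Ideal B)
  set T := hfin.toFinset.erase Q
  have hch : ∀ q ∈ T, ∃ x ∈ q, x ∉ Q := fun q hq => by
    obtain ⟨hne, hq'⟩ := Finset.mem_erase.1 hq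
    rw [Set.Finite.mem_toFinset] at hq'
    by_contra hcon
    push Not at hcon
    exact hne (le_antisymm hcon (hQ.2 hq'.1 hcon))
  choose! x hxq hxQ using hch
  haveI := hQ.1.1
  have he : ∏ q ∈ T, x q ∉ Q := fun h => by
    obtain ⟨q, hq, h'⟩ := (Ideal.IsPrime.prod_mem_iff).1 h
    exact hxQ q hq h'
  set e := ∏ q ∈ T, x q
  have hkill : ∀ a ∈ Q, e * a = 0 := fun a ha => by
    refine IsNilpotent.eq_zero ?_
    rw [← mem_nilradical, nilradical, ← Ideal.sInf_minimalPrimes, Ideal.mem_sInf]
    intro q hq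
    rcases eq_or_ne q Q with rfl | hne
    · exact Ideal.mul_mem_left _ _ ha
    · have hqT : q ∈ T := Finset.mem_erase.2 ⟨hne, (Set.Finite.mem_toFinset _).2 hq⟩
      refine Ideal.mul_mem_right _ _ ?_
      obtain ⟨c, hc⟩ := Finset.dvd_prod_of_mem x hqT
      show ∏ q ∈ T, x q ∈ q
      rw [hc]
      exact Ideal.mul_mem_right _ _ (hxq q hqT)
  refine ⟨e, ?_⟩
  have hzero : ∀ a ∈ Q, algebraMap B (Localization.Away e) a = 0 := fun a ha => by
    rw [IsLocalization.map_eq_zero_iff (Submonoid.powers e)]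
    exact ⟨⟨e, Submonoid.mem_powers e⟩, hkill a ha⟩
  haveI : Nontrivial (Localization.Away e) := by
    refine not_subsingleton_iff_nontrivial.1 fun hsub => ?_
    obtain ⟨n, hn⟩ := (IsLocalization.subsingleton_iff (S := Localization.Away e) (M := Submonoid.powers e)).1 hsub
    exact he (Ideal.IsPrime.mem_of_pow_mem inferInstance n (show e ^ n ∈ Q by rw [show e ^ n = 0 from hn]; exact zero_mem _))
  haveI : NoZeroDivisors (Localization.Away e) := ⟨fun {y z} hyz => by
    obtain ⟨⟨a, ⟨_, i, rfl⟩⟩, ha⟩ := IsLocalization.surj (Submonoid.powers e) y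
    obtain ⟨⟨b, ⟨_, l, rfl⟩⟩, hb⟩ := IsLocalization.surj (Submonoid.powers e) z
    dsimp only at ha hb
    have h0 : algebraMap B (Localization.Away e) (a * b) = 0 := by
      rw [map_mul, ← ha, ← hb, mul_mul_mul_comm, hyz, zero_mul]
    obtain ⟨⟨_, n, rfl⟩, hn⟩ := (IsLocalization.map_eq_zero_iff (Submonoid.powers e) _ _).1 h0
    have hab : a * b ∈ Q := by
      refine (Ideal.IsPrime.mem_or_mem inferInstance (show e ^ n * (a * b) ∈ Q by
        rw [show e ^ n * (a * b) = 0 from hn]; exact zero_mem _)).resolve_left fun h => he ?_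
      exact Ideal.IsPrime.mem_of_pow_mem inferInstance n h
    have hu : ∀ i : ℕ, IsUnit (algebraMap B (Localization.Away e) (e ^ i)) := fun i => by
      rw [map_pow]; exact (IsLocalization.Away.algebraMap_isUnit e).pow i
    rcases Ideal.IsPrime.mem_or_mem inferInstance hab with h | h
    · exact Or.inl ((hu i).mul_left_eq_zero.1 (ha.trans (hzero a h)))
    · exact Or.inr ((hu l).mul_left_eq_zero.1 (hb.trans (hzero b h)))⟩
  exact NoZeroDivisors.to_isDomain _

/-- A standard étale affine chart of a smooth scheme over a field. -/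
theorem exists_chart {k : Type u} [Field k] {T : Scheme.{u}} (p : T ⟶ Spec (CommRingCat.of k)) [Smooth p]
    [Nonempty T] :
    ∃ (C : Type u) (_ : CommRing C) (_ : IsDomain C) (_ : Algebra k C) (_ : Algebra.FiniteType k C) (n : ℕ)
      (_ : Algebra (MvPolynomial (Fin n) k) C) (_ : IsScalarTower k (MvPolynomial (Fin n) k) C)
      (_ : Algebra.IsStandardEtale (MvPolynomial (Fin n) k) C) (j : Spec (CommRingCat.of C) ⟶ T),
      IsOpenImmersion j ∧ j ≫ p = Spec.map (CommRingCat.ofHom (algebraMap k C)) := by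
  obtain ⟨x⟩ := ‹Nonempty T›
  obtain ⟨W, hW, hxW, -⟩ := exists_isAffineOpen_mem_and_subset (x := x) (U := ⊤) trivial
  obtain ⟨φ, hφ⟩ : ∃ φ : CommRingCat.of k ⟶ Γ(T, W), hW.fromSpec ≫ p = Spec.map φ :=
    ⟨Spec.preimage _, (Spec.map_preimage _).symm⟩
  letI : Algebra k Γ(T, W) := φ.hom.toAlgebra
  haveI : Smooth (Spec.map φ) := by rw [← hφ]; infer_instance
  haveI : Algebra.Smooth k Γ(T, W) := (HasRingHomProperty.Spec_iff (P := @Smooth)).1 ‹Smooth (Spec.map φ)›
  haveI : Algebra.FinitePresentation k Γ(T, W) := Algebra.Smooth.finitePresentation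
  haveI : IsNoetherianRing Γ(T, W) := Algebra.FiniteType.isNoetherianRing k Γ(T, W)
  haveI : _root_.IsReduced Γ(T, W) := by
    haveI : IsReduced T := AlgSpLib.isReduced_of_smooth p
    infer_instance
  haveI : Nontrivial Γ(T, W) := (T.presheaf.germ W x hxW).hom.domain_nontrivial
  obtain ⟨e, he⟩ := exists_away_isDomain Γ(T, W)
  let B := Localization.Away e
  haveI : IsDomain B := he
  haveI : Algebra.FinitePresentation k B :=
    haveI := IsLocalization.Away.finitePresentation e (S := B)
    Algebra.FinitePresentation.trans k Γ(T, W) B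
  haveI : Algebra.FormallySmooth Γ(T, W) B := Algebra.FormallySmooth.of_isLocalization (.powers e)
  haveI : Algebra.FormallySmooth k B := Algebra.FormallySmooth.comp k Γ(T, W) B
  haveI : Algebra.Smooth k B := ⟨inferInstance, inferInstance⟩
  obtain ⟨f, hf, n, iA, iT, iS⟩ :=
    Algebra.IsSmoothAt.exists_isStandardEtale_mvPolynomial (R := k) (S := B) (p := (⊥ : Ideal B))
  have hf0 : f ≠ 0 := hf
  haveI : IsDomain (Localization.Away f) :=
    IsLocalization.isDomain_localization (powers_le_nonZeroDivisors_of_noZeroDivisors hf0)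
  haveI : Algebra.FiniteType k (Localization.Away f) :=
    haveI := IsLocalization.Away.finitePresentation f (S := Localization.Away f)
    haveI := Algebra.FinitePresentation.trans k B (Localization.Away f)
    inferInstance
  refine ⟨Localization.Away f, inferInstance, inferInstance, inferInstance, inferInstance, n, iA, iT, iS,
    Spec.map (CommRingCat.ofHom (algebraMap B (Localization.Away f))) ≫
      Spec.map (CommRingCat.ofHom (algebraMap Γ(T, W) B)) ≫ hW.fromSpec, ?_, ?_⟩
  · haveI := IsOpenImmersion.of_isLocalization (S := B) e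
    haveI := IsOpenImmersion.of_isLocalization (S := Localization.Away f) f
    infer_instance
  · rw [Category.assoc, Category.assoc, hφ, ← Spec.map_comp, ← Spec.map_comp]
    rfl

/-- A smooth scheme whose residue points lift to discrete valuation rings is retract rational. -/
theorem retractRational {k : Type u} [Field k] {T : Scheme.{u}} (p : T ⟶ Spec (CommRingCat.of k)) [Smooth p]
    [Nonempty T]
    (h : ∀ (A : Type u) [CommRing A] [IsDomain A] [IsDiscreteValuationRing A] [Algebra k A]
        (u : Spec (CommRingCat.of (ResidueField A)) ⟶ T),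
        u ≫ p = Spec.map (CommRingCat.ofHom ((residue A).comp (algebraMap k A))) →
        ∃ s : Spec (CommRingCat.of A) ⟶ T, s ≫ p = Spec.map (CommRingCat.ofHom (algebraMap k A)) ∧
          Spec.map (CommRingCat.ofHom (residue A)) ≫ s = u) :
    ∃ (U : T.Opens) (n : ℕ) (Y : (Spec (CommRingCat.of (MvPolynomial (Fin n) k))).Opens)
        (a : (U : Scheme.{u}) ⟶ (Y : Scheme.{u})) (b : (Y : Scheme.{u}) ⟶ (U : Scheme.{u})),
        (U : Set T).Nonempty ∧ a ≫ b = 𝟙 (U : Scheme.{u}) ∧
        a ≫ Y.ι ≫ Spec.map (CommRingCat.ofHom (algebraMap k (MvPolynomial (Fin n) k))) = U.ι ≫ p ∧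
        b ≫ U.ι ≫ p = Y.ι ≫ Spec.map (CommRingCat.ofHom (algebraMap k (MvPolynomial (Fin n) k))) := by
  obtain ⟨C, _, _, _, _, n, _, _, _, j, hj, hjp⟩ := exists_chart p
  haveI := hj
  obtain ⟨σ, hbir, g, hg, hker⟩ := exists_model k C n
  haveI : (RingHom.ker σ).IsPrime := RingHom.ker_isPrime σ
  haveI : IsDiscreteValuationRing (Localization.AtPrime (RingHom.ker σ)) := isDVR_of_principal _ hg hker
  let A := Localization.AtPrime (RingHom.ker σ)
  obtain ⟨ψ, hψ⟩ := exists_residue σ hbir
  have huw : (Spec.map (CommRingCat.ofHom ψ.toRingHom) ≫ j) ≫ p =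
      Spec.map (CommRingCat.ofHom ((residue A).comp (algebraMap k A))) := by
    rw [Category.assoc, hjp, ← Spec.map_comp]
    congr 1
    ext r
    exact ψ.commutes r
  obtain ⟨s, hs, hsu⟩ := h A (Spec.map (CommRingCat.ofHom ψ.toRingHom) ≫ j) huw
  -- the lift lands in the chart
  have hmem : s (closedPoint A) ∈ Set.range j := by
    have e1 : (Spec.map (CommRingCat.ofHom (residue A))) (closedPoint (ResidueField A)) = closedPoint A :=
      IsLocalRing.comap_closedPoint (residue A)
    rw [← e1, ← Scheme.Hom.comp_apply, hsu, Scheme.Hom.comp_apply]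
    exact ⟨_, rfl⟩
  have hrange : Set.range s ⊆ Set.range j := by
    rintro _ ⟨a, rfl⟩
    exact ((IsLocalRing.specializes_closedPoint (R := A) a).map s.continuous).mem_open j.isOpenEmbedding.isOpen_range hmem
  obtain ⟨φ₀, hφ₀⟩ : ∃ φ₀ : CommRingCat.of C ⟶ CommRingCat.of A, IsOpenImmersion.lift j s hrange = Spec.map φ₀ :=
    ⟨Spec.preimage _, (Spec.map_preimage _).symm⟩
  have hfac : Spec.map φ₀ ≫ j = s := by rw [← hφ₀, IsOpenImmersion.lift_fac]
  have hcomm : CommRingCat.ofHom (algebraMap k C) ≫ φ₀ = CommRingCat.ofHom (algebraMap k A) :=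
    Spec.map_injective (by rw [Spec.map_comp, ← hjp, ← Category.assoc, hfac, hs])
  let φ : C →ₐ[k] A := { toRingHom := φ₀.hom, commutes' := fun r => congr($hcomm r) }
  have hres : φ₀ ≫ CommRingCat.ofHom (residue A) = CommRingCat.ofHom ψ.toRingHom :=
    Spec.map_injective ((cancel_mono j).1 (by rw [Spec.map_comp, Category.assoc, hfac, hsu]))
  obtain ⟨x, r, ι, π, hx, hπι⟩ := exists_retract σ hbir φ fun c a b hc => hψ c a b (by
    rw [← hc]
    exact (congr($hres c)).symm)
  let Cx := Localization.Away x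
  let Pr := Localization.Away r
  haveI := IsOpenImmersion.of_isLocalization (S := Cx) x
  haveI := IsOpenImmersion.of_isLocalization (S := Pr) r
  let jU : Spec (CommRingCat.of Cx) ⟶ T := Spec.map (CommRingCat.ofHom (algebraMap C Cx)) ≫ j
  let jY : Spec (CommRingCat.of Pr) ⟶ Spec (CommRingCat.of (MvPolynomial (Fin (n + 1)) k)) :=
    Spec.map (CommRingCat.ofHom (algebraMap (MvPolynomial (Fin (n + 1)) k) Pr))
  haveI : IsOpenImmersion jU := inferInstanceAs (IsOpenImmersion (_ ≫ j))
  haveI : IsOpenImmersion jY := inferInstanceAs (IsOpenImmersion (Spec.map _))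
  have hjU : jU ≫ p = Spec.map (CommRingCat.ofHom (algebraMap k Cx)) := by
    rw [Category.assoc, hjp, ← Spec.map_comp, IsScalarTower.algebraMap_eq k C Cx]
    rfl
  have hjY : jY ≫ Spec.map (CommRingCat.ofHom (algebraMap k (MvPolynomial (Fin (n + 1)) k))) =
      Spec.map (CommRingCat.ofHom (algebraMap k Pr)) := by
    rw [← Spec.map_comp, IsScalarTower.algebraMap_eq k (MvPolynomial (Fin (n + 1)) k) Pr]
    rfl
  have hUι : jU.isoOpensRange.inv ≫ jU = jU.opensRange.ι := Scheme.Hom.isoOpensRange_inv_comp jU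
  have hYι : jY.isoOpensRange.inv ≫ jY = jY.opensRange.ι := Scheme.Hom.isoOpensRange_inv_comp jY
  refine ⟨jU.opensRange, n + 1, jY.opensRange,
    jU.isoOpensRange.inv ≫ Spec.map (CommRingCat.ofHom π.toRingHom) ≫ jY.isoOpensRange.hom,
    jY.isoOpensRange.inv ≫ Spec.map (CommRingCat.ofHom ι.toRingHom) ≫ jU.isoOpensRange.hom, ?_, ?_, ?_, ?_⟩
  · haveI : Nontrivial Cx := not_subsingleton_iff_nontrivial.1 fun hsub => by
      obtain ⟨m, hm⟩ := (IsLocalization.subsingleton_iff (S := Cx) (M := Submonoid.powers x)).1 hsub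
      exact pow_ne_zero m hx hm
    obtain ⟨z⟩ : Nonempty ↥(Spec (CommRingCat.of Cx)) := inferInstanceAs (Nonempty (PrimeSpectrum Cx))
    exact ⟨jU z, ⟨z, rfl⟩⟩
  · simp only [Category.assoc, Iso.hom_inv_id_assoc]
    rw [← Spec.map_comp_assoc, show CommRingCat.ofHom ι.toRingHom ≫ CommRingCat.ofHom π.toRingHom = 𝟙 _ from
      CommRingCat.hom_ext (congrArg AlgHom.toRingHom hπι), Spec.map_id, Category.id_comp, Iso.inv_hom_id]
  · simp only [Category.assoc]
    rw [← hYι, ← hUι]
    simp only [Category.assoc, Iso.hom_inv_id_assoc]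
    rw [hjY, hjU, ← Spec.map_comp]
    congr 2
    ext c
    exact π.commutes c
  · simp only [Category.assoc]
    rw [← hUι, ← hYι]
    simp only [Category.assoc, Iso.hom_inv_id_assoc]
    rw [hjY, hjU, ← Spec.map_comp]
    congr 2
    ext c
    exact ι.commutes c

end RetrRatLib

end
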